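import Mathlib
import Cfsg.Prelude.Def_OddOrderLocal

/-! General lemmas on Hall subgroups (relative version `Cfsg.IsPiHallOf`). -/

namespace Cfsg.Agent.Lib.Helper5.HallSn

variable {Γ : Type*} [Group Γ] {π : Set ℕ}

theorem hallOf_of_le {H L G : Subgroup Γ} (h : Cfsg.IsPiHallOf π H G) (hHL : H ≤ L)
    (hLG : L ≤ G) : Cfsg.IsPiHallOf π H L := by
  refine ⟨hHL, h.2.1, fun p hp hpπ hd => h.2.2 p hp hpπ ?_⟩
  rw [← Subgroup.relIndex_mul_relIndex H L G hHL hLG]
  exact Dvd.dvd.mul_right hd _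

theorem hallOf_map {Γ' : Type*} [Group Γ'] (φ : Γ →* Γ') {H G : Subgroup Γ}
    (h : Cfsg.IsPiHallOf π H G) : Cfsg.IsPiHallOf π (H.map φ) (G.map φ) := by
  refine ⟨Subgroup.map_mono h.1, fun p hp hd => h.2.1 p hp (hd.trans (Subgroup.card_map_dvd H φ)),
    fun p hp hpπ hd => h.2.2 p hp hpπ (hd.trans ?_)⟩
  rw [← Subgroup.relIndex_comap]
  exact Subgroup.relIndex_dvd_of_le_left G (Subgroup.le_comap_map φ H)

theorem hallOf_subgroupOf {H L S : Subgroup Γ} (h : Cfsg.IsPiHallOf π H L) (hLS : L ≤ S) :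
    Cfsg.IsPiHallOf π (H.subgroupOf S) (L.subgroupOf S) := by
  refine ⟨?_, fun p hp hd => h.2.1 p hp ?_, fun p hp hpπ hd => h.2.2 p hp hpπ ?_⟩
  · intro x hx
    exact h.1 hx
  · rwa [Nat.card_congr (Subgroup.subgroupOfEquivOfLe (h.1.trans hLS)).toEquiv] at hd
  · have : (H.subgroupOf S).relIndex (L.subgroupOf S) = H.relIndex L := by
      rw [Subgroup.subgroupOf, Subgroup.relIndex_comap, Subgroup.subgroupOf_map_subtype,
        inf_eq_left.mpr hLS]
    rwa [this] at hd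

theorem hallOf_eq_of_pi [Finite Γ] {H G : Subgroup Γ} (h : Cfsg.IsPiHallOf π H G)
    (hG : ∀ p : ℕ, p.Prime → p ∣ Nat.card G → p ∈ π) : H = G := by
  refine le_antisymm h.1 ?_
  rw [← Subgroup.relIndex_eq_one]
  by_contra hne
  obtain ⟨p, hp, hd⟩ := Nat.exists_prime_and_dvd hne
  exact h.2.2 p hp (hG p hp (hd.trans (Subgroup.relIndex_dvd_card H G))) hd

/-- In a Hall `π`-subgroup `H` of `G`, every `p`-subgroup of `G` with `p ∈ π` is conjugate
(by an element of `G`) into `H`. -/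
theorem hallOf_conj_pgroup [Finite Γ] {H G Q : Subgroup Γ} (h : Cfsg.IsPiHallOf π H G) {p : ℕ}
    [hp : Fact p.Prime] (hpπ : p ∈ π) (hQ : IsPGroup p Q) (hQG : Q ≤ G) :
    ∃ g ∈ G, ∀ q ∈ Q, g⁻¹ * q * g ∈ H := by
  have hQ' : IsPGroup p (Q.subgroupOf G) := hQ.comap_subtype
  have hnd : ¬ p ∣ Nat.card (G ⧸ H.subgroupOf G) := h.2.2 p hp.out hpπ
  obtain ⟨x, hx⟩ := hQ'.nonempty_fixed_point_of_prime_not_dvd_card (G ⧸ H.subgroupOf G) hnd
  induction x using QuotientGroup.induction_on with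
  | H g =>
    refine ⟨g, g.2, fun q hq => ?_⟩
    have h1 := hx ⟨⟨q, hQG hq⟩, hq⟩
    have h1' : ((((⟨q, hQG hq⟩ : G) * g : G) : G ⧸ H.subgroupOf G)) = (g : G ⧸ H.subgroupOf G) := h1
    rw [QuotientGroup.eq] at h1'
    rw [Subgroup.mem_subgroupOf] at h1'
    have h3 := H.inv_mem h1'
    simpa [mul_assoc] using h3

/-- Index transfer: if `A ≤ G`, `A` has index 2, `H` is Hall in `G`, `H ≤ K` and `K` is
not inside `A`, then no prime of `π` divides the index of `K`. -/
theorem hallOf_index_ndvd {A G H K : Subgroup Γ} (hA : A.index = 2) (hAG : A ≤ G)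
    (h : Cfsg.IsPiHallOf π H G) (hHK : H ≤ K) (hK : ¬ K ≤ A) {p : ℕ} (hp : p.Prime)
    (hpπ : p ∈ π) : ¬ p ∣ K.index := by
  intro hd
  haveI : A.Normal := Subgroup.normal_of_index_eq_two hA
  by_cases hGA : G ≤ A
  · have hGA' : G = A := le_antisymm hGA hAG
    subst hGA'
    -- K₀ = K ⊓ G
    have h1 : (K ⊓ G).relIndex K = 2 := by
      rw [Subgroup.inf_relIndex_left]
      have h2 : G.relIndex K ∣ 2 := hA ▸ Subgroup.relIndex_dvd_index_of_normal G K
      have h3 : G.relIndex K ≠ 1 := fun h3 => hK (Subgroup.relIndex_eq_one.mp h3)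
      rcases (Nat.dvd_prime Nat.prime_two).mp h2 with h4 | h4
      · exact absurd h4 h3
      · exact h4
    have e1 := Subgroup.relIndex_mul_index (inf_le_left : K ⊓ G ≤ K)
    have e2 := Subgroup.relIndex_mul_index (inf_le_right : K ⊓ G ≤ G)
    rw [h1] at e1
    rw [hA] at e2
    have e3 : K.index = (K ⊓ G).relIndex G := by omega
    rw [e3] at hd
    exact h.2.2 p hp hpπ (hd.trans (Subgroup.relIndex_dvd_of_le_left G (le_inf hHK h.1)))
  · -- G = ⊤
    have hGtop : G = ⊤ := by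
      have h1 : G.index ∣ 2 := hA ▸ Subgroup.index_dvd_of_le hAG
      rcases (Nat.dvd_prime Nat.prime_two).mp h1 with h4 | h4
      · exact Subgroup.index_eq_one.mp h4
      · exfalso
        apply hGA
        have := Subgroup.relIndex_mul_index hAG
        rw [hA, h4] at this
        have h5 : A.relIndex G = 1 := by omega
        exact Subgroup.relIndex_eq_one.mp h5
    subst hGtop
    apply h.2.2 p hp hpπ
    rw [Subgroup.relIndex_top_right]
    exact hd.trans (Subgroup.index_dvd_of_le hHK)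

end Cfsg.Agent.Lib.Helper5.HallSn
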