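import Mathlib
import Cfsg.Agent.Lib.Helper5.HallSn.H1

/-! Set stabilizers in the symmetric group: index, restriction to the set. -/

namespace Cfsg.Agent.Lib.Helper5.HallSn

open Equiv Equiv.Perm MulAction
open scoped Pointwise

variable {α : Type*} [Fintype α] [DecidableEq α] {π : Set ℕ}

theorem index_stabilizer_set (s : Set α) :
    (stabilizer (Perm α) s).index = (Fintype.card α).choose s.ncard := by
  classical
  have hc : (s.toFinite.toFinset).card = s.ncard := (Set.ncard_eq_toFinset_card s s.toFinite).symm
  let t : Set.powersetCard α s.ncard := ⟨s.toFinite.toFinset, hc⟩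
  have ht : ((t : Finset α) : Set α) = s := by simp [t]
  haveI : IsPretransitive (Perm α) (Set.powersetCard α s.ncard) := Set.powersetCard.isPretransitive
  have h1 := index_stabilizer_of_transitive (Perm α) t
  rw [Set.powersetCard.stabilizer_coe] at h1
  have h2 : stabilizer (Perm α) (SetLike.coe t) = stabilizer (Perm α) s := by
    congr 1
  rw [h2] at h1
  rw [h1, Set.powersetCard.card, Nat.card_eq_fintype_card]

theorem card_stabilizer_set (s : Set α) :
    Nat.card (stabilizer (Perm α) s) = s.ncard.factorial * (Fintype.card α - s.ncard).factorial := by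
  have h1 := Subgroup.card_mul_index (stabilizer (Perm α) s)
  rw [index_stabilizer_set, Nat.card_eq_fintype_card (α := Perm α), Fintype.card_perm] at h1
  have hle : s.ncard ≤ Fintype.card α := by
    rw [← Nat.card_eq_fintype_card]; exact Set.ncard_le_card s
  have h2 := Nat.choose_mul_factorial_mul_factorial hle
  have hpos : 0 < (Fintype.card α).choose s.ncard := Nat.choose_pos hle
  apply Nat.eq_of_mul_eq_mul_right hpos
  rw [h1, ← h2]; ring

end Cfsg.Agent.Lib.Helper5.HallSn
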