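import Mathlib
import Cfsg.Agent.Lib.Helper5.HallSn.H2

/-! Restriction of a subgroup of the set stabilizer to the set. -/

namespace Cfsg.Agent.Lib.Helper5.HallSn

open Equiv Equiv.Perm MulAction
open scoped Pointwise

variable {α : Type*} [Fintype α] [DecidableEq α] {π : Set ℕ}

/-- restriction to an invariant set -/
noncomputable def resHom (s : Set α) : stabilizer (Perm α) s →* Perm s :=
  MulAction.toPermHom (stabilizer (Perm α) s) s

theorem resHom_apply (s : Set α) (g : stabilizer (Perm α) s) (x : s) :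
    ((resHom s g) x : α) = (g : Perm α) (x : α) := rfl

/-- the subgroup of `Perm s` induced by `L ⊓ Stab(s)` -/
noncomputable def resSub (s : Set α) (L : Subgroup (Perm α)) : Subgroup (Perm s) :=
  (L.subgroupOf (stabilizer (Perm α) s)).map (resHom s)

theorem mem_resSub {s : Set α} {L : Subgroup (Perm α)} {σ : Perm s} :
    σ ∈ resSub s L ↔ ∃ g : Perm α, ∃ hg : g ∈ stabilizer (Perm α) s, g ∈ L ∧ resHom s ⟨g, hg⟩ = σ := by
  unfold resSub
  constructor
  · rintro ⟨g, hg, rfl⟩
    exact ⟨g.1, g.2, hg, rfl⟩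
  · rintro ⟨g, hg, hgL, rfl⟩
    exact ⟨⟨g, hg⟩, hgL, rfl⟩

theorem resSub_hall {s : Set α} {H G : Subgroup (Perm α)} (h : Cfsg.IsPiHallOf π H G)
    (hs : H ≤ stabilizer (Perm α) s) :
    Cfsg.IsPiHallOf π (resSub s H) (resSub s (G ⊓ stabilizer (Perm α) s)) := by
  have h1 : Cfsg.IsPiHallOf π H (G ⊓ stabilizer (Perm α) s) :=
    hallOf_of_le h (le_inf h.1 hs) inf_le_left
  exact hallOf_map (resHom s) (hallOf_subgroupOf h1 inf_le_right)

theorem alt_le_resSub {s : Set α} [DecidablePred (· ∈ s)] {G : Subgroup (Perm α)}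
    (hG : alternatingGroup α ≤ G) :
    alternatingGroup s ≤ resSub s (G ⊓ stabilizer (Perm α) s) := by
  intro σ hσ
  rw [mem_resSub]
  refine ⟨ofSubtype σ, ofSubtype_mem_stabilizer σ, ⟨hG ?_, ofSubtype_mem_stabilizer σ⟩, ?_⟩
  · rw [mem_alternatingGroup, sign_ofSubtype]
    exact hσ
  · ext x
    rw [resHom_apply]
    simp

theorem card_coe_set (s : Set α) [Fintype s] : Fintype.card s = s.ncard := by
  rw [← Nat.card_eq_fintype_card]; rfl

end Cfsg.Agent.Lib.Helper5.HallSn
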