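import Mathlib
import Cfsg.Agent.Lib.Helper8.HS4

/-! Numeric predicates and the arithmetic of the two reduction cases. -/

namespace Cfsg.Agent.Lib.Helper5.HallSn

open Cfsg.Agent.Lib.Helper8.HS

/-- at most one prime of `π` is `≤ n` -/
def One (n : ℕ) (π : Set ℕ) : Prop :=
  ∀ r s : ℕ, r.Prime → s.Prime → r ∈ π → s ∈ π → r ≤ n → s ≤ n → r = s

/-- all primes `≤ n` are in `π` -/
def All (n : ℕ) (π : Set ℕ) : Prop := ∀ r : ℕ, r.Prime → r ≤ n → r ∈ π

/-- `n` is prime and the primes of `π` up to `n` are those `< n` -/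
def Pt (n : ℕ) (π : Set ℕ) : Prop := n.Prime ∧ ∀ r : ℕ, r.Prime → r ≤ n → (r ∈ π ↔ r < n)

/-- `n ∈ {7, 8}` and the primes of `π` up to `n` are `2, 3` -/
def Sp (n : ℕ) (π : Set ℕ) : Prop :=
  (n = 7 ∨ n = 8) ∧ ∀ r : ℕ, r.Prime → r ≤ n → (r ∈ π ↔ (r = 2 ∨ r = 3))

def Good (n : ℕ) (π : Set ℕ) : Prop := One n π ∨ All n π ∨ Pt n π ∨ Sp n π

theorem not_one_iff {n : ℕ} {π : Set ℕ} : ¬ One n π ↔
    ∃ r s : ℕ, r.Prime ∧ s.Prime ∧ r ≠ s ∧ r ∈ π ∧ s ∈ π ∧ r ≤ n ∧ s ≤ n := by
  unfold One
  constructor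
  · intro h
    push Not at h
    obtain ⟨r, s, hr, hs, hrπ, hsπ, hrn, hsn, hne⟩ := h
    exact ⟨r, s, hr, hs, hne, hrπ, hsπ, hrn, hsn⟩
  · rintro ⟨r, s, hr, hs, hne, hrπ, hsπ, hrn, hsn⟩ h
    exact hne (h r s hr hs hrπ hsπ hrn hsn)

theorem not_all_iff {n : ℕ} {π : Set ℕ} : ¬ All n π ↔ ∃ r : ℕ, r.Prime ∧ r ≤ n ∧ r ∉ π := by
  unfold All
  push Not
  rfl

theorem prime_le_four {r : ℕ} (hr : r.Prime) (h : r ≤ 4) : r = 2 ∨ r = 3 := by
  interval_cases r <;> simp_all (config := {decide := true})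

theorem caseI_num (π : Set ℕ) (a b : ℕ) (ha : 1 ≤ a) (hab : a ≤ b) (hgood : Good b π)
    (hidx : ∀ p, p.Prime → p ∈ π → ¬ p ∣ (a + b).choose a)
    (h1 : ¬ One (a + b) π) (h2 : ¬ All (a + b) π) :
    (a = 1 ∧ All b π ∧ Pt (a + b) π) ∨ (a = 3 ∧ b = 4 ∧ All 4 π ∧ Sp 7 π) := by
  obtain ⟨r, s, hr, hs, hne, hrπ, hsπ, hrn, hsn⟩ := not_one_iff.mp h1
  obtain ⟨q, hq, hqn, hqπ⟩ := not_all_iff.mp h2
  have F1 : ∀ p, p.Prime → p ∈ π → p ≤ a + b → p ≤ b := by
    intro p hp hpπ hpn
    by_contra hlt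
    push Not at hlt
    exact hidx p hp hpπ (hp.dvd_choose_add (lt_of_le_of_lt hab hlt) hlt hpn)
  have hrb := F1 r hr hrπ hrn
  have hsb := F1 s hs hsπ hsn
  rcases hgood with hg | hg | hg | hg
  · exact absurd (hg r s hr hs hrπ hsπ hrb hsb) hne
  · rcases Nat.lt_or_ge a 2 with ha2 | ha2
    · have ha1 : a = 1 := by omega
      subst ha1
      left
      refine ⟨rfl, hg, ?_, ?_⟩
      · have : q = 1 + b := by
          by_contra hne'
          exact hqπ (hg q hq (by omega))
        rwa [← this]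
      · intro t ht htn
        constructor
        · intro htπ
          have := F1 t ht htπ htn
          omega
        · intro htn'
          exact hg t ht (by omega)
    · right
      have hB := lemmaB_explicit a b ha2 hab (fun p hp hd => by
        by_contra hle
        push Not at hle
        exact hidx p hp (hg p hp hle) hd)
      obtain ⟨rfl, rfl⟩ := hB
      refine ⟨rfl, rfl, hg, Or.inl rfl, ?_⟩
      intro t ht htn
      constructor
      · intro htπ
        exact prime_le_four ht (F1 t ht htπ htn)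
      · rintro (rfl | rfl)
        · exact hg 2 ht (by norm_num)
        · exact hg 3 ht (by norm_num)
  · exfalso
    obtain ⟨hbp, hb⟩ := hg
    have hrb' : r < b := (hb r hr hrb).mp hrπ
    have hsb' : s < b := (hb s hs hsb).mp hsπ
    have hb5 : 5 ≤ b := by
      have hr2 := hr.two_le
      have hs2 := hs.two_le
      rcases Nat.lt_or_ge b 5 with h | h
      · have hb4 : b = 4 := by omega
        subst hb4
        exact absurd hbp (by decide)
      · exact h
    have h2π : 2 ∈ π := (hb 2 Nat.prime_two (by omega)).mpr (by omega)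
    rcases Nat.lt_or_ge a 2 with ha2 | ha2
    · have ha1 : a = 1 := by omega
      subst ha1
      apply hidx 2 Nat.prime_two h2π
      rw [Nat.choose_one_right]
      have hodd : Odd b := hbp.odd_of_ne_two (by omega)
      obtain ⟨c, hc⟩ := hodd
      exact ⟨c + 1, by omega⟩
    · have hB := lemmaB_explicit a b ha2 hab (fun p hp hd => by
        by_contra hle
        push Not at hle
        rcases Nat.lt_or_ge p b with hpb | hpb
        · exact hidx p hp ((hb p hp hle).mpr hpb) hd
        · have hpb' : p = b := le_antisymm hle hpb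
          subst hpb'
          exact prime_not_dvd_choose a p hp ha hab (by omega) hd)
      obtain ⟨rfl, rfl⟩ := hB
      revert hbp; decide
  · exfalso
    obtain ⟨hb78, hb⟩ := hg
    have h2π : 2 ∈ π := (hb 2 Nat.prime_two (by omega)).mpr (Or.inl rfl)
    have h3π : 3 ∈ π := (hb 3 Nat.prime_three (by omega)).mpr (Or.inr rfl)
    have key : 2 ∣ (a + b).choose a ∨ 3 ∣ (a + b).choose a := by
      rcases hb78 with rfl | rfl
      · interval_cases a <;> decide
      · interval_cases a <;> decide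
    rcases key with hk | hk
    · exact hidx 2 Nat.prime_two h2π hk
    · exact hidx 3 Nat.prime_three h3π hk

theorem caseII_num (π : Set ℕ) (m k : ℕ) (hm : 2 ≤ m) (hk : 2 ≤ k) (hgood : Good m π)
    (hle : ∀ p, p.Prime → p ∈ π → p ≤ m * k → p ≤ m)
    (hidx : ∀ p, p.Prime → p ∈ π → ∀ i < k, ¬ p ∣ ((i + 1) * m - 1).choose (m - 1))
    (h1 : ¬ One (m * k) π) :
    m = 4 ∧ k = 2 ∧ Sp 8 π := by
  obtain ⟨r, s, hr, hs, hne, hrπ, hsπ, hrn, hsn⟩ := not_one_iff.mp h1
  have hrm := hle r hr hrπ hrn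
  have hsm := hle s hs hsπ hsn
  have hm3 : 3 ≤ m := by
    have := hr.two_le
    have := hs.two_le
    omega
  have hidx1 : ∀ p, p.Prime → p ∈ π → ¬ p ∣ ((m - 1) + m).choose (m - 1) := by
    intro p hp hpπ
    have := hidx p hp hpπ 1 (by omega)
    have e : (1 + 1) * m - 1 = (m - 1) + m := by omega
    rwa [e] at this
  rcases hgood with hg | hg | hg | hg
  · exact absurd (hg r s hr hs hrπ hsπ hrm hsm) hne
  · have hB := lemmaB_explicit (m - 1) m (by omega) (by omega) (fun p hp hd => by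
      by_contra hle'
      push Not at hle'
      exact hidx1 p hp (hg p hp hle') hd)
    have hm4 : m = 4 := hB.2
    subst hm4
    have h3π : 3 ∈ π := hg 3 Nat.prime_three (by norm_num)
    have hk2 : k = 2 := by
      by_contra hk2
      have := hidx 3 Nat.prime_three h3π 2 (by omega)
      exact this (by decide)
    subst hk2
    refine ⟨rfl, rfl, Or.inr rfl, ?_⟩
    intro t ht htn
    constructor
    · intro htπ
      exact prime_le_four ht (hle t ht htπ htn)
    · rintro (rfl | rfl)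
      · exact hg 2 ht (by norm_num)
      · exact hg 3 ht (by norm_num)
  · exfalso
    obtain ⟨hmp, hb⟩ := hg
    have hB := lemmaB_explicit (m - 1) m (by omega) (by omega) (fun p hp hd => by
      by_contra hle'
      push Not at hle'
      rcases Nat.lt_or_ge p m with hpm | hpm
      · exact hidx1 p hp ((hb p hp hle').mpr hpm) hd
      · have hpm' : p = m := le_antisymm hle' hpm
        subst hpm'
        exact prime_not_dvd_choose (p - 1) p hp (by omega) (by omega) (by omega) hd)
    have hm4 : m = 4 := hB.2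
    subst hm4
    revert hmp; decide
  · exfalso
    obtain ⟨hm78, hb⟩ := hg
    have h2π : 2 ∈ π := (hb 2 Nat.prime_two (by omega)).mpr (Or.inl rfl)
    have h3π : 3 ∈ π := (hb 3 Nat.prime_three (by omega)).mpr (Or.inr rfl)
    rcases hm78 with rfl | rfl
    · exact hidx1 2 Nat.prime_two h2π (by decide)
    · exact hidx1 3 Nat.prime_three h3π (by decide)

end Cfsg.Agent.Lib.Helper5.HallSn
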