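import Mathlib
import Cfsg.Agent.Lib.Helper5.HallSn.H3
import Cfsg.Agent.Lib.Helper5.HallSn.Num

/-! The intransitive case. -/

namespace Cfsg.Agent.Lib.Helper5.HallSn

open Equiv Equiv.Perm MulAction
open scoped Pointwise

universe u

/-- numeric induction hypothesis -/
def IH (π : Set ℕ) (n : ℕ) : Prop :=
  ∀ (β : Type u) [Fintype β] [DecidableEq β], Fintype.card β < n →
    ∀ G H : Subgroup (Perm β), alternatingGroup β ≤ G → Cfsg.IsPiHallOf π H G →
      Good (Fintype.card β) π

variable {α : Type u} [Fintype α] [DecidableEq α] {π : Set ℕ}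

theorem swap_not_mem_alt {x y : α} (h : x ≠ y) : swap x y ∉ alternatingGroup α := by
  rw [mem_alternatingGroup, sign_swap h]
  decide

theorem stabilizer_not_le_alt {s : Set α} (hs : 2 ≤ s.ncard) :
    ¬ stabilizer (Perm α) s ≤ alternatingGroup α := by
  intro hle
  have h1 : 1 < s.ncard := hs
  rw [Set.one_lt_ncard_iff] at h1
  obtain ⟨x, y, hx, hy, hxy⟩ := h1
  exact swap_not_mem_alt hxy (hle (swap_mem_stabilizer hx hy))

/-- every prime dividing the order of a set stabilizer is at most the larger part -/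
theorem prime_le_of_dvd_card_stabilizer {s : Set α} {b : ℕ} (h1 : s.ncard ≤ b)
    (h2 : Fintype.card α - s.ncard ≤ b) {p : ℕ} (hp : p.Prime)
    (hd : p ∣ Nat.card (stabilizer (Perm α) s)) : p ≤ b := by
  rw [card_stabilizer_set, hp.dvd_mul] at hd
  rcases hd with hd | hd
  · exact ((hp.dvd_factorial).mp hd).trans h1
  · exact ((hp.dvd_factorial).mp hd).trans h2

/-- The data of the induction step attached to an invariant set `s`. -/
theorem invariant_set_facts (ih : IH.{u} π (Fintype.card α)) {G H : Subgroup (Perm α)}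
    (hAG : alternatingGroup α ≤ G) (hH : Cfsg.IsPiHallOf π H G) {s : Set α}
    (hs : H ≤ stabilizer (Perm α) s) (hs2 : 2 ≤ s.ncard) (hsc : sᶜ.Nonempty) :
    Good s.ncard π ∧ ∀ p, p.Prime → p ∈ π → ¬ p ∣ (Fintype.card α).choose s.ncard := by
  classical
  haveI : Nontrivial α := by
    have h1 : 1 < s.ncard := hs2
    rw [Set.one_lt_ncard_iff] at h1
    obtain ⟨x, y, _, _, hxy⟩ := h1
    exact ⟨x, y, hxy⟩
  constructor
  · have hlt : Fintype.card s < Fintype.card α := by
      rw [card_coe_set, ← Nat.card_eq_fintype_card, ← Set.ncard_add_ncard_compl s]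
      have : 0 < sᶜ.ncard := (Set.ncard_pos).mpr hsc
      omega
    have := ih s hlt _ _ (alt_le_resSub (s := s) hAG) (resSub_hall hH hs)
    rwa [card_coe_set] at this
  · intro p hp hpπ
    have := hallOf_index_ndvd alternatingGroup.index_eq_two hAG hH hs
      (stabilizer_not_le_alt hs2) hp hpπ
    rwa [index_stabilizer_set] at this

/-- two distinct primes below `n` force `3 ≤ n` -/
theorem three_le_of_not_one {n : ℕ} (h1 : ¬ One n π) : 3 ≤ n := by
  obtain ⟨r, s, hr, hs, hne, -, -, hrn, hsn⟩ := not_one_iff.mp h1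
  have := hr.two_le
  have := hs.two_le
  omega

/-- `H` is everything in `G ⊓ Stab(s)` when all primes up to the larger part are in `π`. -/
theorem eq_inf_stabilizer {G H : Subgroup (Perm α)} (hH : Cfsg.IsPiHallOf π H G) {s : Set α}
    (hs : H ≤ stabilizer (Perm α) s) {b : ℕ} (h1 : s.ncard ≤ b)
    (h2 : Fintype.card α - s.ncard ≤ b) (hall : All b π) :
    H = G ⊓ stabilizer (Perm α) s := by
  apply hallOf_eq_of_pi (hallOf_of_le hH (le_inf hH.1 hs) inf_le_left)
  intro p hp hd
  apply hall p hp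
  apply prime_le_of_dvd_card_stabilizer h1 h2 hp
  exact hd.trans (Subgroup.card_dvd_of_le inf_le_right)

theorem caseI (ih : IH.{u} π (Fintype.card α)) {G H : Subgroup (Perm α)}
    (hAG : alternatingGroup α ≤ G) (hH : Cfsg.IsPiHallOf π H G)
    (h1 : ¬ One (Fintype.card α) π) (h2 : ¬ All (Fintype.card α) π)
    (hnt : ¬ IsPretransitive H α) :
    (Pt (Fintype.card α) π ∧ ∃ x : α, H = G ⊓ stabilizer (Perm α) x) ∨
    (Fintype.card α = 7 ∧ Sp 7 π ∧
      ∃ s : Set α, s.ncard = 3 ∧ H = G ⊓ stabilizer (Perm α) s) := by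
  classical
  have hn3 := three_le_of_not_one h1
  -- an invariant proper subset
  have hex : ∃ s : Set α, H ≤ stabilizer (Perm α) s ∧ s.Nonempty ∧ sᶜ.Nonempty := by
    have hα : Nonempty α := by
      by_contra hne
      rw [not_nonempty_iff] at hne
      have : Fintype.card α = 0 := Fintype.card_eq_zero
      omega
    obtain ⟨x⟩ := hα
    refine ⟨orbit H x, ?_, ⟨x, mem_orbit_self x⟩, ?_⟩
    · intro h hh
      rw [mem_stabilizer_iff]
      exact smul_orbit (⟨h, hh⟩ : H) x
    · by_contra hemp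
      rw [Set.not_nonempty_iff_eq_empty, Set.compl_empty_iff] at hemp
      apply hnt
      rw [isPretransitive_iff_base x]
      intro y
      have : y ∈ orbit H x := hemp ▸ Set.mem_univ y
      exact this
  -- choose the larger part
  have hex2 : ∃ s : Set α, H ≤ stabilizer (Perm α) s ∧ s.Nonempty ∧ sᶜ.Nonempty ∧
      sᶜ.ncard ≤ s.ncard := by
    obtain ⟨s, hs, hne, hnec⟩ := hex
    rcases le_total sᶜ.ncard s.ncard with h | h
    · exact ⟨s, hs, hne, hnec, h⟩
    · refine ⟨sᶜ, ?_, hnec, ?_, ?_⟩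
      · rwa [stabilizer_compl]
      · rwa [compl_compl]
      · rwa [compl_compl]
  obtain ⟨s, hs, hne, hnec, hle⟩ := hex2
  have hsum : s.ncard + sᶜ.ncard = Fintype.card α := by
    rw [Set.ncard_add_ncard_compl, Nat.card_eq_fintype_card]
  have hapos : 1 ≤ sᶜ.ncard := (Set.ncard_pos).mpr hnec
  have hs2 : 2 ≤ s.ncard := by omega
  obtain ⟨hgood, hidx⟩ := invariant_set_facts ih hAG hH hs hs2 hnec
  have hcard : Fintype.card α = sᶜ.ncard + s.ncard := by omega
  have hidx' : ∀ p, p.Prime → p ∈ π → ¬ p ∣ (sᶜ.ncard + s.ncard).choose sᶜ.ncard := by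
    intro p hp hpπ
    have := hidx p hp hpπ
    rwa [hcard, add_comm, Nat.choose_symm_add, add_comm] at this
  rw [hcard] at h1 h2
  have hsub : Fintype.card α - s.ncard = sᶜ.ncard := by omega
  rcases caseI_num π sᶜ.ncard s.ncard hapos hle hgood hidx' h1 h2 with
    ⟨ha1, hall, hpt⟩ | ⟨ha3, hb4, hall, hsp⟩
  · left
    rw [hcard]
    refine ⟨hpt, ?_⟩
    rw [Set.ncard_eq_one] at ha1
    obtain ⟨x, hx⟩ := ha1
    refine ⟨x, ?_⟩
    have := eq_inf_stabilizer hH hs le_rfl (by omega) hall
    rw [this, ← stabilizer_compl, hx, stabilizer_singleton]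
  · right
    refine ⟨by omega, hsp, sᶜ, ha3, ?_⟩
    have := eq_inf_stabilizer hH hs (b := 4) (by omega) (by omega) hall
    rw [this, stabilizer_compl]

end Cfsg.Agent.Lib.Helper5.HallSn
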