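import Mathlib
import Cfsg.Agent.Lib.Helper5.HallSn.H4

/-! Transitive tools: stabilizers of blocks are Hall again; elements of prime order. -/

namespace Cfsg.Agent.Lib.Helper5.HallSn

open Equiv Equiv.Perm MulAction
open scoped Pointwise

universe u

theorem relIndex_inf_eq_index {Γ : Type*} [Group Γ] {A G K : Subgroup Γ} (hA : A.index = 2)
    (hAG : A ≤ G) (hK : ¬ K ≤ A) : (K ⊓ G).relIndex G = K.index := by
  haveI : A.Normal := Subgroup.normal_of_index_eq_two hA
  by_cases hGA : G ≤ A
  · have hGA' : G = A := le_antisymm hGA hAG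
    subst hGA'
    have h1 : (K ⊓ G).relIndex K = 2 := by
      rw [Subgroup.inf_relIndex_left]
      have h2 : G.relIndex K ∣ 2 := hA ▸ Subgroup.relIndex_dvd_index_of_normal G K
      have h3 : G.relIndex K ≠ 1 := fun h3 => hK (Subgroup.relIndex_eq_one.mp h3)
      rcases (Nat.dvd_prime Nat.prime_two).mp h2 with h4 | h4
      · exact absurd h4 h3
      · exact h4
    have e1 := Subgroup.relIndex_mul_index (inf_le_left : K ⊓ G ≤ K)
    have e2 := Subgroup.relIndex_mul_index (inf_le_right : K ⊓ G ≤ G)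
    rw [h1] at e1
    rw [hA] at e2
    omega
  · have hGtop : G = ⊤ := by
      have h1 : G.index ∣ 2 := hA ▸ Subgroup.index_dvd_of_le hAG
      rcases (Nat.dvd_prime Nat.prime_two).mp h1 with h4 | h4
      · exact Subgroup.index_eq_one.mp h4
      · exfalso
        apply hGA
        have := Subgroup.relIndex_mul_index hAG
        rw [hA, h4] at this
        have h5 : A.relIndex G = 1 := by omega
        exact Subgroup.relIndex_eq_one.mp h5
    subst hGtop
    rw [inf_top_eq, Subgroup.relIndex_top_right]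

variable {α : Type u} [Fintype α] [DecidableEq α] {π : Set ℕ}

theorem relIndex_stabilizer_eq_ncard_orbit (H : Subgroup (Perm α)) (B : Set α) :
    (H ⊓ stabilizer (Perm α) B).relIndex H = (orbit H B).ncard := by
  rw [Subgroup.inf_relIndex_left, ← index_stabilizer]
  rfl

/-- If `H` is transitive and `B` is a block of `H`, then `H ∩ Stab(B)` is a Hall subgroup of
`G ∩ Stab(B)`. -/
theorem blockHall {G H : Subgroup (Perm α)} (hAG : alternatingGroup α ≤ G)
    (hH : Cfsg.IsPiHallOf π H G) (hn3 : 3 ≤ Fintype.card α) [IsPretransitive H α] {B : Set α}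
    (hB : IsBlock H B) (hBne : B.Nonempty) :
    Cfsg.IsPiHallOf π (H ⊓ stabilizer (Perm α) B) (G ⊓ stabilizer (Perm α) B) := by
  set S := stabilizer (Perm α) B with hS
  haveI : Nontrivial α := by
    rw [← Fintype.one_lt_card_iff_nontrivial]; omega
  refine ⟨inf_le_inf_right _ hH.1, fun p hp hd => hH.2.1 p hp
    (hd.trans (Subgroup.card_dvd_of_le inf_le_left)), fun p hp hpπ hd => hH.2.2 p hp hpπ ?_⟩
  -- S is not inside the alternating group
  have hSA : ¬ S ≤ alternatingGroup α := by
    by_cases h2 : 2 ≤ B.ncard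
    · exact stabilizer_not_le_alt h2
    · rw [hS, ← stabilizer_compl]
      apply stabilizer_not_le_alt
      have := Set.ncard_add_ncard_compl B
      rw [Nat.card_eq_fintype_card] at this
      omega
  have hmk := hB.ncard_block_mul_ncard_orbit_eq hBne
  rw [Nat.card_eq_fintype_card] at hmk
  have hk : (H ⊓ S).relIndex H = (orbit H B).ncard := relIndex_stabilizer_eq_ncard_orbit H B
  have hGS : (S ⊓ G).relIndex G = (Fintype.card α).choose B.ncard := by
    rw [relIndex_inf_eq_index alternatingGroup.index_eq_two hAG hSA, index_stabilizer_set]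
  rw [inf_comm] at hGS
  have c1 := Subgroup.relIndex_mul_relIndex (H ⊓ S) H G inf_le_left hH.1
  have c2 := Subgroup.relIndex_mul_relIndex (H ⊓ S) (G ⊓ S) G (inf_le_inf_right _ hH.1) inf_le_left
  rw [hk] at c1
  rw [hGS] at c2
  -- binomial identity
  have hmpos : 0 < B.ncard := (Set.ncard_pos).mpr hBne
  obtain ⟨m, hm⟩ : ∃ m, B.ncard = m + 1 := ⟨B.ncard - 1, by omega⟩
  obtain ⟨n, hn⟩ : ∃ n, Fintype.card α = n + 1 := ⟨Fintype.card α - 1, by omega⟩
  have hbin := Nat.add_one_mul_choose_eq n m
  rw [hm, hn] at c2 hmk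
  set k := (orbit H B).ncard
  set X := (H ⊓ S).relIndex (G ⊓ S)
  set Y := H.relIndex G
  -- X * choose (n+1) (m+1) = k * Y, (n+1) * choose n m = choose (n+1) (m+1) * (m+1), (m+1) * k = n+1
  have hkey : X * n.choose m = Y := by
    have h3 : (m + 1) * k * (X * n.choose m) = (m + 1) * k * Y := by
      calc (m + 1) * k * (X * n.choose m) = X * ((n + 1) * n.choose m) := by rw [hmk]; ring
        _ = X * ((n + 1).choose (m + 1) * (m + 1)) := by rw [hbin]
        _ = (X * (n + 1).choose (m + 1)) * (m + 1) := by ring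
        _ = (k * Y) * (m + 1) := by rw [c2, c1]
        _ = (m + 1) * k * Y := by ring
    have hpos : 0 < (m + 1) * k := by
      rw [hmk]; omega
    exact Nat.eq_of_mul_eq_mul_left hpos h3
  rw [← hkey]
  exact Dvd.dvd.mul_right hd _

/-- elements of prime order `p ∈ π` of `G` are conjugate into `H` -/
theorem exists_conj_mem {Γ : Type*} [Group Γ] [Finite Γ] {G H : Subgroup Γ}
    (hH : Cfsg.IsPiHallOf π H G) {p : ℕ} (hp : p.Prime) (hpπ : p ∈ π) {g : Γ} (hg : g ∈ G)
    (hgp : orderOf g = p) : ∃ c ∈ G, c⁻¹ * g * c ∈ H := by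
  haveI : Fact p.Prime := ⟨hp⟩
  have hQ : IsPGroup p (Subgroup.zpowers g) := by
    apply IsPGroup.of_card (n := 1)
    rw [Nat.card_zpowers, hgp, pow_one]
  have hQG : Subgroup.zpowers g ≤ G := by
    rw [Subgroup.zpowers_le]; exact hg
  obtain ⟨c, hc, hc'⟩ := hallOf_conj_pgroup hH hpπ hQ hQG
  exact ⟨c, hc, hc' g (Subgroup.mem_zpowers g)⟩

end Cfsg.Agent.Lib.Helper5.HallSn
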