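import Mathlib
import Cfsg.Agent.Lib.Helper5.HallSn.H5

/-! Primitive case, part 1: elements of given cycle type in `H`, Jordan for prime cycles. -/

namespace Cfsg.Agent.Lib.Helper5.HallSn

open Equiv Equiv.Perm MulAction
open scoped Pointwise

universe u

variable {α : Type u} [Fintype α] [DecidableEq α] {π : Set ℕ}

/-- `H` contains an element of each even cycle type of prime order `p ∈ π`. -/
theorem exists_cycleType_mem {G H : Subgroup (Perm α)} (hAG : alternatingGroup α ≤ G)
    (hH : Cfsg.IsPiHallOf π H G) {p : ℕ} (hp : p.Prime) (hpπ : p ∈ π) (m : Multiset ℕ)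
    (hsum : m.sum ≤ Fintype.card α) (h2 : ∀ a ∈ m, 2 ≤ a) (hlcm : m.lcm = p)
    (heven : Even (m.sum + Multiset.card m)) : ∃ g ∈ H, g.cycleType = m := by
  obtain ⟨g, hg⟩ := (Equiv.Perm.exists_with_cycleType_iff α).mpr ⟨hsum, h2⟩
  have hgA : g ∈ alternatingGroup α := by
    rw [mem_alternatingGroup, sign_of_cycleType, hg, heven.neg_one_pow]
  have hord : orderOf g = p := by rw [← lcm_cycleType, hg, hlcm]
  obtain ⟨c, -, hc⟩ := exists_conj_mem hH hp hpπ (hAG hgA) hord
  refine ⟨c⁻¹ * g * c, hc, ?_⟩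
  have := cycleType_conj (σ := g) (τ := c⁻¹)
  rw [inv_inv] at this
  rw [this, hg]

/-- if `G = ⊤`, `H` contains an element of each cycle type of prime order `p ∈ π`. -/
theorem exists_cycleType_mem_top {H : Subgroup (Perm α)}
    (hH : Cfsg.IsPiHallOf π H ⊤) {p : ℕ} (hp : p.Prime) (hpπ : p ∈ π) (m : Multiset ℕ)
    (hsum : m.sum ≤ Fintype.card α) (h2 : ∀ a ∈ m, 2 ≤ a) (hlcm : m.lcm = p) :
    ∃ g ∈ H, g.cycleType = m := by
  obtain ⟨g, hg⟩ := (Equiv.Perm.exists_with_cycleType_iff α).mpr ⟨hsum, h2⟩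
  have hord : orderOf g = p := by rw [← lcm_cycleType, hg, hlcm]
  obtain ⟨c, -, hc⟩ := exists_conj_mem hH hp hpπ (Subgroup.mem_top g) hord
  refine ⟨c⁻¹ * g * c, hc, ?_⟩
  have := cycleType_conj (σ := g) (τ := c⁻¹)
  rw [inv_inv] at this
  rw [this, hg]

/-- a group containing an element exchanging two points has even order -/
theorem two_dvd_card_of_exchange {H : Subgroup (Perm α)} {h : Perm α} (hh : h ∈ H) {x y : α}
    (hxy : x ≠ y) (h1 : h x = y) (h2 : h y = x) : 2 ∣ Nat.card H := by
  have hord : 2 ∣ orderOf h := by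
    by_contra hodd
    have hodd' : Odd (orderOf h) := Nat.odd_iff.mpr (by omega)
    obtain ⟨t, ht⟩ := hodd'
    have hsq : ∀ k : ℕ, (h ^ (2 * k)) x = x := by
      intro k
      induction k with
      | zero => simp
      | succ k ih =>
        rw [show 2 * (k + 1) = 2 * k + 2 by ring, pow_add, Perm.mul_apply]
        have : (h ^ 2) x = x := by rw [pow_two, Perm.mul_apply, h1, h2]
        rw [this, ih]
    have : (h ^ orderOf h) x = x := by rw [pow_orderOf_eq_one]; rfl
    rw [ht, pow_succ, Perm.mul_apply, h1] at this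
    have h3 : (h ^ (2 * t)) y = y := by
      have := hsq t
      have hy : (h ^ (2 * t)) (h x) = h ((h ^ (2 * t)) x) := by
        rw [← Perm.mul_apply, ← Perm.mul_apply, ← pow_succ, ← pow_succ']
      rw [this, h1] at hy
      exact hy
    exact hxy (this.symm.trans h3)
  have h4 : orderOf (⟨h, hh⟩ : H) = orderOf h := Subgroup.orderOf_mk h hh
  exact hord.trans (h4 ▸ orderOf_dvd_natCard (⟨h, hh⟩ : H))

/-- Jordan: a primitive group containing a cycle of prime length `p < n` has even order. -/
theorem two_dvd_card_of_prime_cycle {H : Subgroup (Perm α)} (hprim : IsPreprimitive H α)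
    {g : Perm α} (hg : g ∈ H) {p : ℕ} (hp : p.Prime) (hgt : g.cycleType = {p})
    (hpn : p < Fintype.card α) : 2 ∣ Nat.card H := by
  classical
  have hgc : g.IsCycle := card_cycleType_eq_one.mp (by rw [hgt]; rfl)
  have hsupp : g.support.card = p := by rw [← sum_cycleType, hgt]; simp
  obtain ⟨j, hj⟩ : ∃ j, Fintype.card α = p + (j + 1) := ⟨Fintype.card α - p - 1, by omega⟩
  have hsc : Set.ncard ((g.support : Set α)ᶜ) = j + 1 := by
    apply Nat.add_left_cancel
    rw [Set.ncard_add_ncard_compl, Set.ncard_coe_finset, hsupp, Nat.card_eq_fintype_card, hj]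
  have h2 := hp.two_le
  have hmp : IsMultiplyPreprimitive H α (j + 2) := by
    apply hprim.isMultiplyPreprimitive hsc
    · rw [Nat.card_eq_fintype_card, hj]; omega
    have := isPretransitive_of_isCycle_mem hgc hg
    apply IsPreprimitive.of_prime_card
    convert! hp
    rw [Nat.card_eq_fintype_card, Fintype.card_subtype, ← hsupp]
    apply congr_arg
    ext x
    simp [SubMulAction.mem_ofFixingSubgroup_iff]
  have hmt : IsMultiplyPretransitive H α (j + 2) := hmp.isMultiplyPretransitive
  have hmt2 : IsMultiplyPretransitive H α 2 :=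
    isMultiplyPretransitive_of_le (n := j + 2) (by omega)
      (by rw [Nat.card_eq_fintype_card, hj]; omega)
  rw [is_two_pretransitive_iff] at hmt2
  have hnt : Nontrivial α := by
    rw [← Fintype.one_lt_card_iff_nontrivial]; omega
  obtain ⟨x, y, hxy⟩ := hnt
  obtain ⟨h, h1, h2⟩ := hmt2 hxy hxy.symm
  exact two_dvd_card_of_exchange h.2 hxy h1 h2

end Cfsg.Agent.Lib.Helper5.HallSn
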