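import Mathlib
import Cfsg.Agent.Lib.Helper5.HallSn.H6
import Cfsg.Agent.S0200

/-! Primitive case, part 2: no primitive Hall `{2, n}`-subgroup for `n ≥ 5` prime. -/

namespace Cfsg.Agent.Lib.Helper5.HallSn

open Equiv Equiv.Perm MulAction
open scoped Pointwise

universe u

variable {α : Type u} [Fintype α] [DecidableEq α] {π : Set ℕ}

/-- an involution of `Perm α` with two fixed points does not invert a full cycle of odd length -/
theorem not_invert_full_cycle {v w : Perm α} (hw : w.IsCycle) (hsupp : w.support = Finset.univ)
    (hodd : Odd (orderOf w)) (hinv : v * w * v⁻¹ = w⁻¹) {x y : α} (hxy : x ≠ y)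
    (hx : v x = x) (hy : v y = y) : False := by
  have hxs : x ∈ w.support := hsupp ▸ Finset.mem_univ x
  have hys : y ∈ w.support := hsupp ▸ Finset.mem_univ y
  obtain ⟨i, hi⟩ := hw.exists_pow_eq (mem_support.mp hxs) (mem_support.mp hys)
  have hconj : v * w ^ i * v⁻¹ = (w ^ i)⁻¹ := by
    rw [← conj_pow, hinv, inv_pow]
  have h1 : v ((w ^ i) (v⁻¹ x)) = (w ^ i)⁻¹ x := by
    rw [← hconj]; simp
  have hvx : v⁻¹ x = x := by rw [Perm.inv_eq_iff_eq, hx]
  rw [hvx, hi, hy] at h1
  -- h1 : y = (w^i)⁻¹ x
  have h2 : (w ^ i) y = x := by rw [h1]; simp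
  have h3 : (w ^ (2 * i)) x = x := by
    rw [two_mul, pow_add, Perm.mul_apply, hi, h2]
  have h4 : w ^ (2 * i) = 1 := (hw.pow_eq_one_iff' (mem_support.mp hxs)).mpr h3
  have h5 : orderOf w ∣ 2 * i := orderOf_dvd_of_pow_eq_one h4
  have h6 : orderOf w ∣ i := (Nat.Coprime.dvd_mul_left (Nat.Coprime.symm
    (Nat.coprime_two_left.mpr hodd))).mp h5
  have h7 : w ^ i = 1 := orderOf_dvd_iff_pow_eq_one.mp h6
  rw [h7] at hi
  exact hxy hi

/-- a proper subgroup of the alternating group of degree 5 has index at least 4 -/
theorem index_alt_five (hα : Fintype.card α = 5) (L : Subgroup (alternatingGroup α))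
    (hL : L ≠ ⊤) : 4 ≤ L.index := by
  by_contra hlt
  push Not at hlt
  haveI : Nontrivial α := by
    rw [← Fintype.one_lt_card_iff_nontrivial]; omega
  haveI : IsSimpleGroup (alternatingGroup α) :=
    alternatingGroup.isSimpleGroup (by rw [Nat.card_eq_fintype_card]; omega)
  have hker : (MulAction.toPermHom (alternatingGroup α) (alternatingGroup α ⧸ L)).ker = ⊥ := by
    rcases (MulAction.toPermHom (alternatingGroup α)
      (alternatingGroup α ⧸ L)).normal_ker.eq_bot_or_eq_top with h | h
    · exact h
    · exfalso
      apply hL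
      rw [← Subgroup.normalCore_eq_ker] at h
      exact top_le_iff.mp (h ▸ Subgroup.normalCore_le L)
  have hinj : Function.Injective (MulAction.toPermHom (alternatingGroup α)
      (alternatingGroup α ⧸ L)) := (MonoidHom.ker_eq_bot_iff _).mp hker
  have hcard : Nat.card (alternatingGroup α) ≤ Nat.card (Perm (alternatingGroup α ⧸ L)) :=
    Nat.card_le_card_of_injective _ hinj
  have h60 : Nat.card (alternatingGroup α) = 60 := by
    have := two_mul_card_alternatingGroup (α := α)
    rw [Fintype.card_perm, hα] at this
    rw [Nat.card_eq_fintype_card]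
    have h120 : Nat.factorial 5 = 120 := by decide
    omega
  have hperm : Nat.card (Perm (alternatingGroup α ⧸ L)) = (L.index).factorial := by
    rw [Nat.card_perm]; rfl
  rw [h60, hperm] at hcard
  have : (L.index).factorial ≤ Nat.factorial 3 := Nat.factorial_le (by omega)
  have h6 : Nat.factorial 3 = 6 := by decide
  omega

/-- prime divisors of the order of a subgroup of `Perm α` are at most `card α` -/
theorem prime_le_card_of_dvd_card (H : Subgroup (Perm α)) {p : ℕ} (hp : p.Prime)
    (hd : p ∣ Nat.card H) : p ≤ Fintype.card α := by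
  have h1 : Nat.card H ∣ Nat.card (Perm α) := Subgroup.card_subgroup_dvd_card H
  rw [Nat.card_eq_fintype_card (α := Perm α), Fintype.card_perm] at h1
  exact (hp.dvd_factorial).mp (hd.trans h1)

theorem no_hall_two_prime {G H : Subgroup (Perm α)} (hAG : alternatingGroup α ≤ G)
    (hH : Cfsg.IsPiHallOf π H G) (hn : (Fintype.card α).Prime) (hn5 : 5 ≤ Fintype.card α)
    (h2π : 2 ∈ π) (hnπ : Fintype.card α ∈ π)
    (hπ : ∀ t : ℕ, t.Prime → t ≤ Fintype.card α → t ∈ π → t = 2 ∨ t = Fintype.card α)
    (hprim : IsPreprimitive H α) : False := by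
  classical
  -- prime divisors of |H|
  have hdiv : ∀ q : ℕ, q.Prime → q ∣ Nat.card H → q = 2 ∨ q = Fintype.card α := fun q hq hd =>
    hπ q hq (prime_le_card_of_dvd_card H hq hd) (hH.2.1 q hq hd)
  -- a double transposition in H
  obtain ⟨v, hvH, hvt⟩ := exists_cycleType_mem hAG hH Nat.prime_two h2π ({2, 2} : Multiset ℕ)
    (by simp; omega) (by simp) (by decide) (by decide)
  have hvord : orderOf v = 2 := by rw [← lcm_cycleType, hvt]; decide
  have hvsupp : v.support.card = 4 := by rw [← sum_cycleType, hvt]; rfl
  have hv1 : v ≠ 1 := by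
    intro h; rw [h, orderOf_one] at hvord; omega
  set t : H := ⟨v, hvH⟩ with ht
  have htord : orderOf t = 2 := by rw [ht, Subgroup.orderOf_mk]; exact hvord
  by_cases hN : ∃ N : Subgroup H, N.Normal ∧ IsPGroup 2 N ∧ t ∈ N
  · -- a normal 2-subgroup of a primitive group of odd prime degree
    obtain ⟨N, hNn, hN2, htN⟩ := hN
    haveI := hNn
    have hfix : fixedPoints N α ≠ Set.univ := by
      intro hfix
      apply hv1
      ext x
      have hx : x ∈ fixedPoints N α := hfix ▸ Set.mem_univ x
      have hfx : (⟨t, htN⟩ : N) • x = x := hx ⟨t, htN⟩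
      exact hfx
    haveI : IsPretransitive N α := IsQuasiPreprimitive.isPretransitive_of_normal hfix
    have hα : Nonempty α := by
      by_contra hne
      rw [not_nonempty_iff] at hne
      have : Fintype.card α = 0 := Fintype.card_eq_zero
      omega
    obtain ⟨x⟩ := hα
    have h1 : Nat.card α ∣ Nat.card N := by
      rw [← index_stabilizer_of_transitive N x]
      exact Subgroup.index_dvd_card _
    obtain ⟨k, hk⟩ := (IsPGroup.iff_card (p := 2)).mp hN2
    rw [hk, Nat.card_eq_fintype_card] at h1
    have := (Nat.prime_dvd_prime_iff_eq hn Nat.prime_two).mp (hn.dvd_of_dvd_pow h1)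
    omega
  · push Not at hN
    obtain ⟨h, hh1, hhodd, hhinv⟩ := Cfsg.Agent.S0200.result t htord
      (fun N hNn hN2 htN => hN N hNn hN2 htN)
    -- a prime divisor of the order of h
    have hord1 : orderOf h ≠ 1 := fun h' => hh1 (orderOf_eq_one_iff.mp h')
    obtain ⟨q, hq, hqd⟩ := Nat.exists_prime_and_dvd hord1
    have hq2 : q ≠ 2 := by
      rintro rfl
      exact (Nat.not_even_iff_odd.mpr hhodd) (even_iff_two_dvd.mpr hqd)
    have hqn : q = Fintype.card α := by
      rcases hdiv q hq (hqd.trans (orderOf_dvd_natCard h)) with h' | h'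
      · exact absurd h' hq2
      · exact h'
    -- the power of h of order n
    obtain ⟨c, hc⟩ := hqd
    set h' : H := h ^ c with hh'
    have hh'ord : orderOf h' = q := by
      have hpos : 0 < orderOf h := orderOf_pos h
      rw [hh', orderOf_pow' h (by rintro rfl; omega), hc]
      have hcpos : 0 < c := by
        rcases Nat.eq_zero_or_pos c with h0 | h0
        · rw [h0] at hc; omega
        · exact h0
      rw [Nat.gcd_eq_right (Dvd.intro_left q rfl), Nat.mul_div_cancel _ hcpos]
    have hh'inv : t * h' * t⁻¹ = h'⁻¹ := by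
      rw [hh', ← conj_pow, hhinv, inv_pow]
    set w : Perm α := (h' : Perm α) with hw
    have hword : orderOf w = Fintype.card α := by
      rw [hw, Subgroup.orderOf_coe, hh'ord, hqn]
    have hwinv : v * w * v⁻¹ = w⁻¹ := by
      have := congrArg (Subtype.val) hh'inv
      simpa using this
    -- w is a full cycle
    obtain ⟨k, hk⟩ := cycleType_prime_order (σ := w) (by rw [hword]; exact hn)
    rw [hword] at hk
    have hsum := sum_cycleType_le w
    rw [hk, Multiset.sum_replicate, smul_eq_mul] at hsum
    have hk0 : k = 0 := by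
      by_contra hk0
      have : 2 * Fintype.card α ≤ (k + 1) * Fintype.card α :=
        Nat.mul_le_mul_right _ (by omega)
      omega
    rw [hk0] at hk
    have hwc : w.IsCycle := card_cycleType_eq_one.mp (by rw [hk]; rfl)
    have hwsupp : w.support = Finset.univ := by
      apply Finset.eq_univ_of_card
      rw [← sum_cycleType, hk]; simp
    have hwodd : Odd (orderOf w) := by
      rw [hword]; exact hn.odd_of_ne_two (by omega)
    rcases Nat.lt_or_ge (Fintype.card α) 6 with h6 | h6
    · -- n = 5
      have hα5 : Fintype.card α = 5 := by omega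
      have hLne : H.subgroupOf (alternatingGroup α) ≠ ⊤ := by
        intro htop
        rw [Subgroup.subgroupOf_eq_top] at htop
        have h3 : 3 ∣ Nat.card H := by
          have hA : Nat.card (alternatingGroup α) = 60 := by
            haveI : Nontrivial α := by
              rw [← Fintype.one_lt_card_iff_nontrivial]; omega
            have := two_mul_card_alternatingGroup (α := α)
            rw [Fintype.card_perm, hα5] at this
            rw [Nat.card_eq_fintype_card]
            have h120 : Nat.factorial 5 = 120 := by decide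
            omega
          have := Subgroup.card_dvd_of_le htop
          rw [hA] at this
          exact (by decide : 3 ∣ 60).trans this
        rcases hdiv 3 Nat.prime_three h3 with h' | h' <;> omega
      have hidx := index_alt_five hα5 _ hLne
      have hrel : (H.subgroupOf (alternatingGroup α)).index = H.relIndex (alternatingGroup α) := rfl
      rw [hrel] at hidx
      -- H.relIndex G divides 3
      have hfin : H.relIndex G ≠ 0 := by
        intro h0
        have h1 : H.relIndex G ∣ Nat.card G := Subgroup.relIndex_dvd_card H G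
        rw [h0] at h1
        exact Nat.card_pos.ne' (zero_dvd_iff.mp h1)
      have hle : H.relIndex (alternatingGroup α) ≤ H.relIndex G :=
        Subgroup.relIndex_le_of_le_right hAG hfin
      have hdvd : H.relIndex G ∣ 120 := by
        have h1 : H.relIndex G ∣ Nat.card G := Subgroup.relIndex_dvd_card H G
        have h2 : Nat.card G ∣ Nat.card (Perm α) := Subgroup.card_subgroup_dvd_card G
        rw [Nat.card_eq_fintype_card (α := Perm α), Fintype.card_perm, hα5] at h2
        exact h1.trans h2
      have hnd2 : ¬ 2 ∣ H.relIndex G := hH.2.2 2 Nat.prime_two h2π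
      have hnd5 : ¬ 5 ∣ H.relIndex G := hH.2.2 5 (by norm_num) (hα5 ▸ hnπ)
      have hle120 : H.relIndex G ≤ 120 := Nat.le_of_dvd (by norm_num) hdvd
      have : H.relIndex G ≤ 3 := by
        generalize H.relIndex G = r at *
        interval_cases r <;> omega
      omega
    · -- n ≥ 7 : v has two fixed points
      have hcompl : 2 ≤ (v.support)ᶜ.card := by
        rw [Finset.card_compl, hvsupp]; omega
      obtain ⟨x, hx, y, hy, hxy⟩ := Finset.one_lt_card.mp hcompl
      rw [Finset.mem_compl, notMem_support] at hx hy
      exact not_invert_full_cycle hwc hwsupp hwodd hwinv hxy hx hy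

end Cfsg.Agent.Lib.Helper5.HallSn
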