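import Mathlib
import Cfsg.Agent.Lib.Helper5.HallSn.H7

/-! Primitive case, part 3: assembly. -/

namespace Cfsg.Agent.Lib.Helper5.HallSn

open Equiv Equiv.Perm MulAction
open scoped Pointwise

universe u

variable {α : Type u} [Fintype α] [DecidableEq α] {π : Set ℕ}

theorem five_le_of_not_one_not_all {n : ℕ} (h1 : ¬ One n π) (h2 : ¬ All n π) : 5 ≤ n := by
  obtain ⟨r, s, hr, hs, hne, hrπ, hsπ, hrn, hsn⟩ := not_one_iff.mp h1
  obtain ⟨q, hq, hqn, hqπ⟩ := not_all_iff.mp h2
  by_contra hlt
  push Not at hlt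
  have hr' := prime_le_four hr (by omega)
  have hs' := prime_le_four hs (by omega)
  have hq' := prime_le_four hq (by omega)
  rcases hr' with rfl | rfl <;> rcases hs' with rfl | rfl <;> rcases hq' with rfl | rfl <;>
    first | exact hne rfl | exact hqπ hrπ | exact hqπ hsπ

theorem eq_top_of_not_le_alt [Nontrivial α] {G : Subgroup (Perm α)}
    (hAG : alternatingGroup α ≤ G) (hG : ¬ G ≤ alternatingGroup α) : G = ⊤ := by
  have hA := alternatingGroup.index_eq_two (α := α)
  have h1 : G.index ∣ 2 := hA ▸ Subgroup.index_dvd_of_le hAG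
  rcases (Nat.dvd_prime Nat.prime_two).mp h1 with h4 | h4
  · exact Subgroup.index_eq_one.mp h4
  · exfalso
    apply hG
    have := Subgroup.relIndex_mul_index hAG
    rw [hA, h4] at this
    have h5 : (alternatingGroup α).relIndex G = 1 := by omega
    exact Subgroup.relIndex_eq_one.mp h5

/-- every prime up to `n ≥ 4` divides the order of the alternating group -/
theorem prime_dvd_card_alt (hn : 4 ≤ Fintype.card α) {t : ℕ} (ht : t.Prime)
    (htn : t ≤ Fintype.card α) : t ∣ Nat.card (alternatingGroup α) := by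
  haveI : Nontrivial α := by
    rw [← Fintype.one_lt_card_iff_nontrivial]; omega
  have h2 := two_mul_card_alternatingGroup (α := α)
  rw [Fintype.card_perm, ← Nat.card_eq_fintype_card] at h2
  have hdvd : t ∣ (Fintype.card α).factorial := (ht.dvd_factorial).mpr htn
  rcases eq_or_ne t 2 with rfl | ht2
  · have h4 : 4 ∣ (Fintype.card α).factorial :=
      (by decide : 4 ∣ Nat.factorial 4).trans (Nat.factorial_dvd_factorial hn)
    omega
  · rw [← h2] at hdvd
    exact ((Nat.Prime.coprime_iff_not_dvd ht).mpr (fun h => ht2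
      ((Nat.prime_dvd_prime_iff_eq ht Nat.prime_two).mp h))).dvd_of_dvd_mul_left hdvd

theorem caseIII (ih : IH.{u} π (Fintype.card α)) {G H : Subgroup (Perm α)}
    (hAG : alternatingGroup α ≤ G) (hH : Cfsg.IsPiHallOf π H G)
    (h1 : ¬ One (Fintype.card α) π) (h2 : ¬ All (Fintype.card α) π)
    (hprim : IsPreprimitive H α) : False := by
  classical
  have hn5 := five_le_of_not_one_not_all h1 h2
  haveI : Nontrivial α := by
    rw [← Fintype.one_lt_card_iff_nontrivial]; omega
  obtain ⟨r, s, hr, hs, hne, hrπ, hsπ, hrn, hsn⟩ := not_one_iff.mp h1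
  -- wlog r < s
  have hwlog : ∃ r s : ℕ, r.Prime ∧ s.Prime ∧ r < s ∧ r ∈ π ∧ s ∈ π ∧ s ≤ Fintype.card α := by
    rcases lt_or_gt_of_ne hne with h | h
    · exact ⟨r, s, hr, hs, h, hrπ, hsπ, hsn⟩
    · exact ⟨s, r, hs, hr, h, hsπ, hrπ, hrn⟩
  clear hr hs hne hrπ hsπ hrn hsn
  obtain ⟨r, s, hr, hs, hrs, hrπ, hsπ, hsn⟩ := hwlog
  by_cases h2π : 2 ∈ π
  swap
  · -- 2 ∉ π : Jordan
    have hr2 : r ≠ 2 := fun h => h2π (h ▸ hrπ)
    have hrodd : Odd r := hr.odd_of_ne_two hr2
    obtain ⟨g, hgH, hgt⟩ := exists_cycleType_mem hAG hH hr hrπ ({r} : Multiset ℕ)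
      (by simp; omega) (by simp; exact hr.two_le) (by simp) (by
        simp only [Multiset.sum_singleton, Multiset.card_singleton]
        exact hrodd.add_one)
    exact h2π (hH.2.1 2 Nat.prime_two
      (two_dvd_card_of_prime_cycle hprim hgH hr hgt (by omega)))
  by_cases hGA : G ≤ alternatingGroup α
  swap
  · -- G = ⊤ : a transposition
    have hGtop := eq_top_of_not_le_alt hAG hGA
    subst hGtop
    obtain ⟨g, hgH, hgt⟩ := exists_cycleType_mem_top hH Nat.prime_two h2π ({2} : Multiset ℕ)
      (by simp; omega) (by simp) (by simp)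
    have hsw : g.IsSwap := by
      rw [← card_support_eq_two, ← sum_cycleType, hgt]; rfl
    have htop := subgroup_eq_top_of_isPreprimitive_of_isSwap_mem hprim g hsw hgH
    apply h2
    intro t ht htn
    apply hH.2.1 t ht
    rw [htop, Nat.card_congr (Subgroup.topEquiv (G := Perm α)).toEquiv,
      Nat.card_eq_fintype_card, Fintype.card_perm]
    exact (ht.dvd_factorial).mpr htn
  by_cases h3π : 3 ∈ π
  · -- a 3-cycle
    obtain ⟨g, hgH, hgt⟩ := exists_cycleType_mem hAG hH Nat.prime_three h3π ({3} : Multiset ℕ)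
      (by simp; omega) (by simp) (by simp) (by decide)
    have hle := alternatingGroup_le_of_isPreprimitive_of_isThreeCycle_mem hprim
      (g := g) hgt hgH
    apply h2
    intro t ht htn
    apply hH.2.1 t ht
    exact (prime_dvd_card_alt (by omega) ht htn).trans (Subgroup.card_dvd_of_le hle)
  -- 3 ∉ π, G = A : point stabilizer and induction
  haveI : IsPretransitive H α := hprim.toIsPretransitive
  obtain ⟨x⟩ : Nonempty α := inferInstance
  have hblock : IsBlock H ({x} : Set α) := IsBlock.singleton
  have hHx := blockHall hAG hH (by omega) hblock (Set.singleton_nonempty x)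
  set sx : Set α := ({x} : Set α)ᶜ with hsx
  have hstab : stabilizer (Perm α) sx = stabilizer (Perm α) ({x} : Set α) := by
    rw [hsx, stabilizer_compl]
  have hle : H ⊓ stabilizer (Perm α) ({x} : Set α) ≤ stabilizer (Perm α) sx := by
    rw [hstab]; exact inf_le_right
  have hres := resSub_hall hHx hle
  have heq : (G ⊓ stabilizer (Perm α) ({x} : Set α)) ⊓ stabilizer (Perm α) sx =
      G ⊓ stabilizer (Perm α) sx := by
    rw [hstab, inf_assoc, inf_idem]
  rw [heq] at hres
  have hcard : Fintype.card sx = Fintype.card α - 1 := by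
    rw [card_coe_set, hsx, Set.ncard_compl, Set.ncard_singleton, Nat.card_eq_fintype_card]
  have hgood := ih sx (by rw [hcard]; omega) _ _ (alt_le_resSub (s := sx) hAG) hres
  rw [hcard] at hgood
  rcases hgood with hg | hg | hg | hg
  · -- One (n-1)
    have hsn' : s = Fintype.card α := by
      by_contra hne'
      have : r = s := hg r s hr hs hrπ hsπ (by omega) (by omega)
      omega
    have hπ : ∀ t : ℕ, t.Prime → t ≤ Fintype.card α → t ∈ π → t = 2 ∨ t = Fintype.card α := by
      intro t ht htn htπ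
      rcases Nat.lt_or_ge t (Fintype.card α) with hlt | hge
      · left
        exact hg t 2 ht Nat.prime_two htπ h2π (by omega) (by omega)
      · right; omega
    exact no_hall_two_prime hAG hH (hsn' ▸ hs) hn5 h2π (hsn' ▸ hsπ) hπ hprim
  · exact h3π (hg 3 Nat.prime_three (by omega))
  · obtain ⟨hp, hb⟩ := hg
    have h5 : 5 ≤ Fintype.card α - 1 := by
      rcases Nat.lt_or_ge (Fintype.card α - 1) 5 with h | h
      · have : Fintype.card α - 1 = 4 := by omega
        rw [this] at hp
        exact absurd hp (by decide)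
      · exact h
    exact h3π ((hb 3 Nat.prime_three (by omega)).mpr (by omega))
  · exact h3π ((hg.2 3 Nat.prime_three (by rcases hg.1 with h | h <;> omega)).mpr (Or.inr rfl))

end Cfsg.Agent.Lib.Helper5.HallSn
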