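import Mathlib
import Cfsg.Agent.Lib.Helper5.HallSn.H8

/-! The stabilizer of a partition into parts of equal size: bound on the order. -/

namespace Cfsg.Agent.Lib.Helper5.HallSn

open Equiv Equiv.Perm MulAction
open scoped Pointwise

universe u

variable {α : Type u} [Fintype α] [DecidableEq α]

/-- permutations preserving every fibre of `f` -/
def fibreStab {ι : Type*} (f : α → ι) : Subgroup (Perm α) where
  carrier := {g | ∀ x, f (g x) = f x}
  mul_mem' := fun {a b} ha hb x => by rw [Perm.mul_apply, ha, hb]
  one_mem' := fun x => rfl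
  inv_mem' := fun {a} ha x => by
    have := ha (a⁻¹ x)
    simp at this
    exact this.symm

theorem card_fibreStab {ι : Type*} [Fintype ι] [DecidableEq ι] (f : α → ι) :
    Nat.card (fibreStab f) = ∏ i, (Fintype.card {a // f a = i}).factorial := by
  rw [← DomMulAct.stabilizer_card f, ← Nat.card_eq_fintype_card]
  apply Nat.card_congr
  refine Equiv.subtypeEquivRight (fun g => ?_)
  constructor
  · intro h; funext x; exact h x
  · intro h x; exact congrFun h x

theorem card_stabilizer_partition_dvd (ℬ : Set (Set α))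
    (hpart : ∀ x : α, ∃! b : Set α, b ∈ ℬ ∧ x ∈ b) (m : ℕ) (hm : ∀ b ∈ ℬ, b.ncard = m) :
    Nat.card (stabilizer (Perm α) ℬ) ∣ m.factorial ^ ℬ.ncard * (ℬ.ncard).factorial := by
  classical
  set K := stabilizer (Perm α) ℬ with hK
  let φ : K →* Perm ℬ := MulAction.toPermHom K ℬ
  have h1 : Nat.card K = Nat.card φ.ker * Nat.card φ.range := by
    rw [← Subgroup.index_ker, Subgroup.card_mul_index]
  have hfin : Fintype ℬ := Fintype.ofFinite ℬ
  have hcardB : Fintype.card ℬ = ℬ.ncard := by
    rw [← Nat.card_eq_fintype_card]; rfl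
  have h2 : Nat.card φ.range ∣ (ℬ.ncard).factorial := by
    have := Subgroup.card_subgroup_dvd_card φ.range
    rwa [Nat.card_eq_fintype_card (α := Perm ℬ), Fintype.card_perm, hcardB] at this
  -- the block map
  let f : α → ℬ := fun x => ⟨(hpart x).choose, (hpart x).choose_spec.1.1⟩
  have hf_mem : ∀ x, x ∈ (f x : Set α) := fun x => (hpart x).choose_spec.1.2
  have hf_uniq : ∀ x (b : ℬ), x ∈ (b : Set α) → f x = b := by
    intro x b hxb
    apply Subtype.ext
    exact ((hpart x).choose_spec.2 b ⟨b.2, hxb⟩).symm
  have h3 : Nat.card φ.ker ∣ m.factorial ^ ℬ.ncard := by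
    have hle : φ.ker.map K.subtype ≤ fibreStab f := by
      rintro _ ⟨g, hg, rfl⟩
      intro x
      have hgb : g • (f x) = f x := by
        have := MonoidHom.mem_ker.mp hg
        have h' := congrArg (fun σ : Perm ℬ => σ (f x)) this
        simpa [φ] using h'
      apply hf_uniq
      have hx : (g : Perm α) • x ∈ (g : Perm α) • ((f x : ℬ) : Set α) :=
        Set.smul_mem_smul_set (hf_mem x)
      have hcoe : ((g • (f x) : ℬ) : Set α) = (g : Perm α) • ((f x : ℬ) : Set α) := rfl
      rw [← hcoe, hgb] at hx
      exact hx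
    have hinj : Nat.card (φ.ker.map K.subtype) = Nat.card φ.ker :=
      Nat.card_congr (Subgroup.equivMapOfInjective _ _ K.subtype_injective).symm.toEquiv
    have hdvd := Subgroup.card_dvd_of_le hle
    rw [hinj, card_fibreStab] at hdvd
    have hprod : ∏ i : ℬ, (Fintype.card {a // f a = i}).factorial = m.factorial ^ ℬ.ncard := by
      rw [← hcardB, ← Finset.card_univ, ← Finset.prod_const]
      apply Finset.prod_congr rfl
      intro i _
      congr 1
      rw [← hm i i.2, ← Nat.card_eq_fintype_card, ← Nat.card_coe_set_eq]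
      apply Nat.card_congr
      refine Equiv.subtypeEquivRight (fun a => ?_)
      constructor
      · intro h; rw [← h]; exact hf_mem a
      · intro h; exact hf_uniq a i h
    rwa [hprod] at hdvd
  rw [h1]
  exact Nat.mul_dvd_mul h3 h2

end Cfsg.Agent.Lib.Helper5.HallSn
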