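import Mathlib
import Cfsg.Agent.Lib.Helper5.HallSn.H9

/-! Imprimitive case, part 1: prime cycles and blocks. -/

namespace Cfsg.Agent.Lib.Helper5.HallSn

open Equiv Equiv.Perm MulAction
open scoped Pointwise

universe u

variable {α : Type u} [Fintype α] [DecidableEq α] {π : Set ℕ}

theorem block_smul_eq_of_mem {H : Subgroup (Perm α)} {B : Set α} (hB : IsBlock H B)
    {g : Perm α} (hg : g ∈ H) {y : α} (hy : y ∈ B) (hgy : g y ∈ B) : g • B = B := by
  have h := (isBlock_iff_smul_eq_or_disjoint.mp hB) (⟨g, hg⟩ : H)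
  rcases h with h | h
  · exact h
  · exfalso
    have h1 : g y ∈ (⟨g, hg⟩ : H) • B := Set.smul_mem_smul_set (a := (⟨g, hg⟩ : H)) hy
    exact (Set.disjoint_left.mp h) h1 hgy

theorem prime_cycle_le_block {H : Subgroup (Perm α)} {B : Set α} (hB : IsBlock H B)
    {g : Perm α} (hg : g ∈ H) {p : ℕ} (hp : p.Prime) (hgt : g.cycleType = {p}) {x : α}
    (hxB : x ∈ B) (hxg : g x ≠ x) (hB2 : 2 ≤ B.ncard) : p ≤ B.ncard := by
  classical
  have hgc : g.IsCycle := card_cycleType_eq_one.mp (by rw [hgt]; rfl)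
  have hsupp : g.support.card = p := by rw [← sum_cycleType, hgt]; simp
  have hord : orderOf g = p := by rw [← lcm_cycleType, hgt]; simp
  -- Step 1 : g stabilizes B
  have hgS : g ∈ stabilizer (Perm α) B := by
    by_contra hnS
    have hne : g • B ≠ B := hnS
    -- all points of B are moved
    have hmoved : ∀ y ∈ B, g y ≠ y := by
      intro y hy hgy
      exact hne (block_smul_eq_of_mem hB hg hy (hgy.symm ▸ hy))
    have h1 : 1 < B.ncard := hB2
    rw [Set.one_lt_ncard_iff] at h1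
    obtain ⟨a, b, ha, hb, hab⟩ := h1
    obtain ⟨y, hyB, hyx⟩ : ∃ y ∈ B, y ≠ x := by
      by_cases hax : a = x
      · exact ⟨b, hb, fun h => hab (hax.trans h.symm)⟩
      · exact ⟨a, ha, hax⟩
    obtain ⟨i, hi⟩ := hgc.exists_pow_eq hxg (hmoved y hyB)
    have hiS : g ^ i ∈ stabilizer (Perm α) B :=
      block_smul_eq_of_mem hB (H.pow_mem hg i) hxB (hi ▸ hyB)
    have hndvd : ¬ p ∣ i := by
      intro hd
      have : g ^ i = 1 := by rw [← hord] at hd; exact orderOf_dvd_iff_pow_eq_one.mp hd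
      rw [this] at hi
      exact hyx hi.symm
    have hcop : Nat.Coprime i p := (Nat.Coprime.symm ((Nat.Prime.coprime_iff_not_dvd hp).mpr hndvd))
    obtain ⟨j, -, hj⟩ := Nat.exists_mul_mod_eq_one_of_coprime hcop hp.one_lt
    have hpow : (g ^ i) ^ j = g := by
      rw [← pow_mul, ← pow_mod_orderOf, hord, hj, pow_one]
    exact hnS (hpow ▸ (stabilizer (Perm α) B).pow_mem hiS j)
  -- Step 2 : the support is inside B
  have hsub : (g.support : Set α) ⊆ B := by
    intro z hz
    rw [Finset.mem_coe, mem_support] at hz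
    obtain ⟨i, hi⟩ := hgc.exists_pow_eq hxg hz
    have hiS : g ^ i ∈ stabilizer (Perm α) B := (stabilizer (Perm α) B).pow_mem hgS i
    rw [mem_stabilizer_iff] at hiS
    rw [← hiS, ← hi]
    exact Set.smul_mem_smul_set hxB
  have := Set.ncard_le_ncard hsub (Set.toFinite B)
  rwa [Set.ncard_coe_finset, hsupp] at this

end Cfsg.Agent.Lib.Helper5.HallSn
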