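import Mathlib
import Cfsg.Agent.Lib.Helper5.HallSn.H10

/-! Imprimitive case, part 2: the stabilizer of the block system. -/

namespace Cfsg.Agent.Lib.Helper5.HallSn

open Equiv Equiv.Perm MulAction
open scoped Pointwise
open Cfsg.Agent.Lib.Helper8.HS

universe u

variable {α : Type u} [Fintype α] [DecidableEq α] {π : Set ℕ}

/-- the block system of translates of a block -/
theorem orbit_block_partition {H : Subgroup (Perm α)} [IsPretransitive H α] {B : Set α}
    (hB : IsBlock H B) (hBne : B.Nonempty) :
    ∀ x : α, ∃! b : Set α, b ∈ orbit H B ∧ x ∈ b :=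
  (hB.isBlockSystem hBne).1.2

theorem orbit_block_ncard {H : Subgroup (Perm α)} {B : Set α} :
    ∀ b ∈ orbit H B, b.ncard = B.ncard := by
  rintro _ ⟨g, rfl⟩
  exact Set.ncard_smul_set g B

theorem le_stabilizer_orbit (H : Subgroup (Perm α)) (B : Set α) :
    H ≤ stabilizer (Perm α) (orbit H B) := by
  intro h hh
  rw [mem_stabilizer_iff]
  exact smul_orbit (⟨h, hh⟩ : H) B

theorem mem_stabilizer_of_forall {ℬ : Set (Set α)} {g : Perm α} (h : ∀ b ∈ ℬ, g • b = b) :
    g ∈ stabilizer (Perm α) ℬ := by
  rw [mem_stabilizer_iff]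
  ext b
  constructor
  · rintro ⟨c, hc, rfl⟩
    have : g • c = c := h c hc
    rw [show (fun x => g • x) c = g • c from rfl, this]
    exact hc
  · intro hb
    exact ⟨b, hb, h b hb⟩

theorem stabilizer_orbit_not_le_alt {H : Subgroup (Perm α)} [IsPretransitive H α] {B : Set α}
    (hB : IsBlock H B) (hB2 : 2 ≤ B.ncard) :
    ¬ stabilizer (Perm α) (orbit H B) ≤ alternatingGroup α := by
  intro hle
  have h1 : 1 < B.ncard := hB2
  rw [Set.one_lt_ncard_iff] at h1
  obtain ⟨u, v, hu, hv, huv⟩ := h1
  have hBne : B.Nonempty := ⟨u, hu⟩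
  apply swap_not_mem_alt huv
  apply hle
  apply mem_stabilizer_of_forall
  intro b hb
  by_cases hbB : b = B
  · rw [hbB]
    exact swap_mem_stabilizer hu hv
  · have hpart := orbit_block_partition hB hBne
    have hub : u ∉ b := by
      intro hub
      obtain ⟨c, -, hc⟩ := hpart u
      have e1 := hc b ⟨hb, hub⟩
      have e2 := hc B ⟨mem_orbit_self B, hu⟩
      exact hbB (e1.trans e2.symm)
    have hvb : v ∉ b := by
      intro hvb
      obtain ⟨c, -, hc⟩ := hpart v
      have e1 := hc b ⟨hb, hvb⟩
      have e2 := hc B ⟨mem_orbit_self B, hv⟩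
      exact hbB (e1.trans e2.symm)
    have := swap_mem_stabilizer (s := bᶜ) hub hvb
    rw [stabilizer_compl] at this
    exact this

/-- the index of the stabilizer of the block system is divisible by the binomial factors -/
theorem choose_dvd_index_stabilizer_orbit {H : Subgroup (Perm α)} [IsPretransitive H α]
    {B : Set α} (hB : IsBlock H B) (hBne : B.Nonempty) {i : ℕ}
    (hi : i < (orbit H B).ncard) :
    ((i + 1) * B.ncard - 1).choose (B.ncard - 1) ∣
      (stabilizer (Perm α) (orbit H B)).index := by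
  set m := B.ncard with hm
  set k := (orbit H B).ncard with hk
  set K := stabilizer (Perm α) (orbit H B) with hK
  have hmk : m * k = Fintype.card α := by
    have := hB.ncard_block_mul_ncard_orbit_eq hBne
    rwa [Nat.card_eq_fintype_card] at this
  have hmpos : 1 ≤ m := (Set.ncard_pos).mpr hBne
  have hdvd := card_stabilizer_partition_dvd (orbit H B) (orbit_block_partition hB hBne) m
    orbit_block_ncard
  obtain ⟨c, hc⟩ := hdvd
  have hfac := factorial_mul_eq m k hmpos
  have hidx := Subgroup.card_mul_index K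
  rw [Nat.card_eq_fintype_card (α := Perm α), Fintype.card_perm, ← hmk, hfac, hc] at hidx
  have hKpos : 0 < Nat.card K := Nat.card_pos
  have h2 : K.index = c * ∏ i ∈ Finset.range k, ((i + 1) * m - 1).choose (m - 1) := by
    apply Nat.eq_of_mul_eq_mul_left hKpos
    rw [hidx]; ring
  rw [h2]
  exact Dvd.dvd.mul_left (Finset.dvd_prod_of_mem _ (Finset.mem_range.mpr hi)) c

end Cfsg.Agent.Lib.Helper5.HallSn
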