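import Mathlib
import Cfsg.Agent.Lib.Helper5.HallSn.H11

/-! Imprimitive case, part 3: assembly. -/

namespace Cfsg.Agent.Lib.Helper5.HallSn

open Equiv Equiv.Perm MulAction
open scoped Pointwise

universe u

variable {α : Type u} [Fintype α] [DecidableEq α] {π : Set ℕ}

theorem prime_dvd_1152 {p : ℕ} (hp : p.Prime) (h : p ∣ 1152) : p = 2 ∨ p = 3 := by
  have h1 : (1152 : ℕ) = 2 ^ 7 * 3 ^ 2 := by norm_num
  rw [h1, hp.dvd_mul] at h
  rcases h with h | h
  · left; exact (Nat.prime_dvd_prime_iff_eq hp Nat.prime_two).mp (hp.dvd_of_dvd_pow h)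
  · right; exact (Nat.prime_dvd_prime_iff_eq hp Nat.prime_three).mp (hp.dvd_of_dvd_pow h)

theorem caseII (ih : IH.{u} π (Fintype.card α)) {G H : Subgroup (Perm α)}
    (hAG : alternatingGroup α ≤ G) (hH : Cfsg.IsPiHallOf π H G)
    (h1 : ¬ One (Fintype.card α) π) (h2 : ¬ All (Fintype.card α) π)
    (htr : IsPretransitive H α) (hnp : ¬ IsPreprimitive H α) :
    Fintype.card α = 8 ∧ Sp 8 π ∧ ∃ s : Set α, s.ncard = 4 ∧
      H = G ⊓ stabilizer (Perm α) ({s, sᶜ} : Set (Set α)) := by
  classical
  have hn5 := five_le_of_not_one_not_all h1 h2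
  -- a nontrivial block
  obtain ⟨B, hB, hBnt⟩ : ∃ B : Set α, IsBlock H B ∧ ¬ IsTrivialBlock B := by
    by_contra hcon
    push Not at hcon
    exact hnp { toIsPretransitive := htr, isTrivialBlock_of_isBlock := fun {B} hB => hcon B hB }
  unfold IsTrivialBlock at hBnt
  push Not at hBnt
  obtain ⟨hBns, hBuniv⟩ := hBnt
  have hBnt' : B.Nontrivial := hBns
  have hBne : B.Nonempty := hBnt'.nonempty
  have hB2 : 2 ≤ B.ncard := Set.one_lt_ncard_iff_nontrivial.mpr hBnt'
  set m := B.ncard with hm
  set k := (orbit H B).ncard with hk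
  have hmk : m * k = Fintype.card α := by
    have := hB.ncard_block_mul_ncard_orbit_eq hBne
    rwa [Nat.card_eq_fintype_card] at this
  have hmlt : m < Fintype.card α := by
    have hc : Bᶜ.Nonempty := Set.nonempty_compl.mpr hBuniv
    have hpos : 0 < Bᶜ.ncard := (Set.ncard_pos).mpr hc
    have := Set.ncard_add_ncard_compl B
    rw [Nat.card_eq_fintype_card] at this
    omega
  have hk2 : 2 ≤ k := by
    by_contra hlt
    push Not at hlt
    interval_cases k <;> omega
  -- (i) primes of π are at most m
  have hle : ∀ p, p.Prime → p ∈ π → p ≤ m * k → p ≤ m := by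
    intro p hp hpπ hpn
    rcases eq_or_ne p 2 with rfl | hp2
    · exact hB2
    · have hodd : Odd p := hp.odd_of_ne_two hp2
      obtain ⟨g, hgH, hgt⟩ := exists_cycleType_mem hAG hH hp hpπ ({p} : Multiset ℕ)
        (by simp; omega) (by simp; exact hp.two_le) (by simp) (by
          simp only [Multiset.sum_singleton, Multiset.card_singleton]
          exact hodd.add_one)
      have hsupp : g.support.card = p := by rw [← sum_cycleType, hgt]; simp
      have hne : g.support.Nonempty := by
        rw [← Finset.card_pos, hsupp]; exact hp.pos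
      obtain ⟨x, hx⟩ := hne
      rw [mem_support] at hx
      obtain ⟨b0, hb0⟩ := hBne
      obtain ⟨h, hh⟩ := exists_smul_eq H b0 x
      have hB' : IsBlock H (h • B) := hB.translate h
      have hxB' : x ∈ h • B := hh ▸ Set.smul_mem_smul_set hb0
      have hcard' : (h • B).ncard = m := Set.ncard_smul_set h B
      have := prime_cycle_le_block hB' hgH hp hgt hxB' hx (by rw [hcard']; exact hB2)
      rwa [hcard'] at this
  -- (ii) a Hall subgroup on the block
  have hHB := blockHall hAG hH (by omega) hB hBne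
  have hres := resSub_hall hHB (inf_le_right : H ⊓ stabilizer (Perm α) B ≤ stabilizer (Perm α) B)
  rw [inf_assoc, inf_idem] at hres
  have hcardB : Fintype.card B = m := card_coe_set B
  have hgood := ih B (by rw [hcardB]; exact hmlt) _ _ (alt_le_resSub (s := B) hAG) hres
  rw [hcardB] at hgood
  -- (iii) the block system stabilizer
  set K := stabilizer (Perm α) (orbit H B) with hK
  have hHK : H ≤ K := le_stabilizer_orbit H B
  have hKA : ¬ K ≤ alternatingGroup α := stabilizer_orbit_not_le_alt hB hB2
  haveI : Nontrivial α := by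
    rw [← Fintype.one_lt_card_iff_nontrivial]; omega
  have hidx : ∀ p, p.Prime → p ∈ π → ∀ i < k, ¬ p ∣ ((i + 1) * m - 1).choose (m - 1) := by
    intro p hp hpπ i hi hd
    exact hallOf_index_ndvd alternatingGroup.index_eq_two hAG hH hHK hKA hp hpπ
      (hd.trans (choose_dvd_index_stabilizer_orbit hB hBne hi))
  rw [← hmk] at h1
  obtain ⟨hm4, hk2', hsp⟩ := caseII_num π m k hB2 hk2 hgood hle hidx h1
  refine ⟨by rw [← hmk, hm4, hk2'], hsp, B, hm4, ?_⟩
  -- the structure
  have hKcard : Nat.card K ∣ 1152 := by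
    have := card_stabilizer_partition_dvd (orbit H B) (orbit_block_partition hB hBne) m
      orbit_block_ncard
    rw [← hk, hm4, hk2'] at this
    exact this
  have hHeq : H = G ⊓ K := by
    apply hallOf_eq_of_pi (hallOf_of_le hH (le_inf hH.1 hHK) inf_le_left)
    intro p hp hd
    have h3 := prime_dvd_1152 hp ((hd.trans (Subgroup.card_dvd_of_le inf_le_right)).trans hKcard)
    exact (hsp.2 p hp (by rcases h3 with rfl | rfl <;> norm_num)).mpr h3
  -- the orbit is {B, Bᶜ}
  have horb : orbit H B = ({B, Bᶜ} : Set (Set α)) := by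
    have h2' : (orbit H B).ncard = 2 := hk2'
    rw [Set.ncard_eq_two] at h2'
    obtain ⟨b1, b2, hne, hb⟩ := h2'
    have hBmem : B ∈ orbit H B := mem_orbit_self B
    have hpart := orbit_block_partition hB hBne
    -- any other member is the complement
    have hother : ∀ b ∈ orbit H B, b ≠ B → b = Bᶜ := by
      intro b hb' hbB
      have hdisj : b ⊆ Bᶜ := by
        intro x hxb hxB
        obtain ⟨c, -, hc⟩ := hpart x
        exact hbB ((hc b ⟨hb', hxb⟩).trans (hc B ⟨hBmem, hxB⟩).symm)
      apply Set.eq_of_subset_of_ncard_le hdisj _ (Set.toFinite _)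
      rw [orbit_block_ncard b hb', Set.ncard_compl, Nat.card_eq_fintype_card, ← hmk, ← hm, hm4,
        hk2']
    rw [hb] at hBmem hother
    rcases hBmem with h | h
    · have : b2 = Bᶜ := hother b2 (Or.inr rfl) (by rw [h]; exact Ne.symm hne)
      rw [hb, this, ← h]
    · have h' : B = b2 := h
      have : b1 = Bᶜ := hother b1 (Or.inl rfl) (by rw [h']; exact hne)
      rw [hb, this, ← h', Set.pair_comm]
  rw [hHeq, hK, horb]

end Cfsg.Agent.Lib.Helper5.HallSn
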