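import Mathlib
import Cfsg.Agent.Lib.Helper5.HallSn.H12

/-! Hall subgroups of symmetric and alternating groups: the main structure theorem. -/

namespace Cfsg.Agent.Lib.Helper5.HallSn

open Equiv Equiv.Perm MulAction
open scoped Pointwise

universe u

theorem main_aux {α : Type u} [Fintype α] [DecidableEq α] {π : Set ℕ}
    (ih : IH.{u} π (Fintype.card α)) {G H : Subgroup (Perm α)}
    (hAG : alternatingGroup α ≤ G) (hH : Cfsg.IsPiHallOf π H G)
    (h1 : ¬ One (Fintype.card α) π) (h2 : ¬ All (Fintype.card α) π) :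
    (Pt (Fintype.card α) π ∧ ∃ x : α, H = G ⊓ stabilizer (Perm α) x) ∨
    (Fintype.card α = 7 ∧ Sp 7 π ∧
      ∃ s : Set α, s.ncard = 3 ∧ H = G ⊓ stabilizer (Perm α) s) ∨
    (Fintype.card α = 8 ∧ Sp 8 π ∧ ∃ s : Set α, s.ncard = 4 ∧
      H = G ⊓ stabilizer (Perm α) ({s, sᶜ} : Set (Set α))) := by
  by_cases htr : IsPretransitive H α
  · by_cases hprim : IsPreprimitive H α
    · exact (caseIII ih hAG hH h1 h2 hprim).elim
    · exact Or.inr (Or.inr (caseII ih hAG hH h1 h2 htr hprim))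
  · rcases caseI ih hAG hH h1 h2 htr with h | h
    · exact Or.inl h
    · exact Or.inr (Or.inl h)

theorem ih_all (π : Set ℕ) : ∀ n : ℕ, IH.{u} π n := by
  intro n
  induction n using Nat.strong_induction_on with
  | _ n hrec =>
    intro β _ _ hβ G H hAG hH
    have ih : IH.{u} π (Fintype.card β) := hrec _ hβ
    by_cases h1 : One (Fintype.card β) π
    · exact Or.inl h1
    by_cases h2 : All (Fintype.card β) π
    · exact Or.inr (Or.inl h2)
    rcases main_aux ih hAG hH h1 h2 with h | h | h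
    · exact Or.inr (Or.inr (Or.inl h.1))
    · exact Or.inr (Or.inr (Or.inr (h.1 ▸ h.2.1)))
    · exact Or.inr (Or.inr (Or.inr (h.1 ▸ h.2.1)))

/-- **Hall subgroups of symmetric and alternating groups** (Thompson's theorem and its
alternating analogue, structural form). -/
theorem main {α : Type u} [Fintype α] [DecidableEq α] (π : Set ℕ)
    (G H : Subgroup (Equiv.Perm α)) (hAG : alternatingGroup α ≤ G)
    (hH : Cfsg.IsPiHallOf π H G)
    (h2 : ∃ r s : ℕ, r.Prime ∧ s.Prime ∧ r ≠ s ∧ r ∈ π ∧ s ∈ π ∧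
      r ≤ Fintype.card α ∧ s ≤ Fintype.card α)
    (hns : ∃ r : ℕ, r.Prime ∧ r ≤ Fintype.card α ∧ r ∉ π) :
    ((Fintype.card α).Prime ∧
        (∀ r : ℕ, r.Prime → r ≤ Fintype.card α → (r ∈ π ↔ r < Fintype.card α)) ∧
        ∃ x : α, H = G ⊓ MulAction.stabilizer (Equiv.Perm α) x) ∨
    (Fintype.card α = 7 ∧ (∀ r : ℕ, r.Prime → r ≤ 7 → (r ∈ π ↔ r = 2 ∨ r = 3)) ∧
        ∃ s : Set α, s.ncard = 3 ∧ H = G ⊓ MulAction.stabilizer (Equiv.Perm α) s) ∨
    (Fintype.card α = 8 ∧ (∀ r : ℕ, r.Prime → r ≤ 8 → (r ∈ π ↔ r = 2 ∨ r = 3)) ∧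
        ∃ s : Set α, s.ncard = 4 ∧
          H = G ⊓ MulAction.stabilizer (Equiv.Perm α) ({s, sᶜ} : Set (Set α))) := by
  have h1' : ¬ One (Fintype.card α) π := not_one_iff.mpr h2
  have h2' : ¬ All (Fintype.card α) π := not_all_iff.mpr hns
  rcases main_aux (ih_all π _) hAG hH h1' h2' with h | h | h
  · exact Or.inl ⟨h.1.1, h.1.2, h.2⟩
  · exact Or.inr (Or.inl ⟨h.1, h.2.1.2, h.2.2⟩)
  · exact Or.inr (Or.inr ⟨h.1, h.2.1.2, h.2.2⟩)

end Cfsg.Agent.Lib.Helper5.HallSn
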